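import Groth.Agent.Lib.Derive.Left
import Mathlib.Algebra.Homology.DerivedCategory.Basic

/-! # Left derived functors of functors on complexes which respect homotopies -/

set_option autoImplicit false
universe v u

open CategoryTheory

namespace GrothLib.Derive

section KanPrecomp

variable {C₀ : Type*} [Category C₀] {C : Type*} [Category C] {D : Type*} [Category D] {H : Type*} [Category H]
  (q : C₀ ⥤ C) [q.Full] [q.EssSurj] (L : C ⥤ D) (F : C ⥤ H)

/-- A natural transformation defined after a full, essentially surjective functor descends. -/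
theorem exists_descend {F₁ F₂ : C ⥤ H} (β : q ⋙ F₁ ⟶ q ⋙ F₂) : ∃ β' : F₁ ⟶ F₂, Functor.whiskerLeft q β' = β := by
  refine ⟨{ app := fun X => F₁.map (q.objObjPreimageIso X).inv ≫ β.app (q.objPreimage X) ≫
      F₂.map (q.objObjPreimageIso X).hom, naturality := fun X Y f => ?_ }, ?_⟩
  · obtain ⟨g, hg⟩ := q.map_surjective ((q.objObjPreimageIso X).hom ≫ f ≫ (q.objObjPreimageIso Y).inv)
    have hn : F₁.map (q.map g) ≫ β.app (q.objPreimage Y) = β.app (q.objPreimage X) ≫ F₂.map (q.map g) :=
      β.naturality g
    have h1 : f ≫ (q.objObjPreimageIso Y).inv = (q.objObjPreimageIso X).inv ≫ q.map g := by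
      rw [hg, Iso.inv_hom_id_assoc]
    have h2 : q.map g ≫ (q.objObjPreimageIso Y).hom = (q.objObjPreimageIso X).hom ≫ f := by
      rw [hg, Category.assoc, Category.assoc, Iso.inv_hom_id, Category.comp_id]
    rw [← F₁.map_comp_assoc, h1, F₁.map_comp_assoc, reassoc_of% hn, ← F₂.map_comp, h2, F₂.map_comp]
    simp only [Category.assoc]
  · ext X
    obtain ⟨g, hg⟩ := q.map_surjective (q.objObjPreimageIso (q.obj X)).hom
    have hn : F₁.map (q.map g) ≫ β.app X = β.app (q.objPreimage (q.obj X)) ≫ F₂.map (q.map g) := β.naturality g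
    rw [hg] at hn
    change F₁.map (q.objObjPreimageIso (q.obj X)).inv ≫ β.app (q.objPreimage (q.obj X)) ≫ F₂.map (q.objObjPreimageIso (q.obj X)).hom = β.app X
    rw [← hn, ← F₁.map_comp_assoc, Iso.inv_hom_id, F₁.map_id]
    exact Category.id_comp _

variable {q L F} {L₀ : C₀ ⥤ D} {F₀ : C₀ ⥤ H} (eL : q ⋙ L ≅ L₀) (eF : q ⋙ F ≅ F₀)

/-- A right Kan extension along `L` is one along `q ⋙ L`. -/
theorem isRightKanExtension_precomp (G : D ⥤ H) (α : L ⋙ G ⟶ F) [G.IsRightKanExtension α] :
    G.IsRightKanExtension (Functor.whiskerRight eL.inv G ≫ Functor.whiskerLeft q α ≫ eF.hom) := by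
  have key : ∀ (E : D ⥤ H) (γ : E ⟶ G) (X : C₀) (β : L ⋙ E ⟶ F) (ε : L₀ ⋙ E ⟶ F₀),
      Functor.whiskerLeft q β = Functor.whiskerRight eL.hom E ≫ ε ≫ eF.inv →
      (γ.app (L.obj (q.obj X)) ≫ α.app (q.obj X) = β.app (q.obj X) ↔
      γ.app (L₀.obj X) ≫ G.map (eL.inv.app X) ≫ α.app (q.obj X) ≫ eF.hom.app X = ε.app X) := by
    intro E γ X β ε hβ
    have hX : β.app (q.obj X) = E.map (eL.hom.app X) ≫ ε.app X ≫ eF.inv.app X := NatTrans.congr_app hβ X
    have hn : E.map (eL.hom.app X) ≫ γ.app (L₀.obj X) = γ.app (L.obj (q.obj X)) ≫ G.map (eL.hom.app X) :=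
      γ.naturality (eL.hom.app X)
    constructor
    · intro h
      rw [← cancel_epi (E.map (eL.hom.app X)), reassoc_of% hn, ← G.map_comp_assoc, Iso.hom_inv_id_app]
      erw [G.map_id]
      erw [Category.id_comp]
      rw [reassoc_of% h, hX]
      simp
    · intro h
      rw [hX, ← h]
      simp only [Category.assoc, Iso.hom_inv_id_app]
      rw [reassoc_of% hn, ← G.map_comp_assoc, Iso.hom_inv_id_app]
      erw [G.map_id]
      erw [Category.id_comp, Category.comp_id]
  refine ⟨⟨Limits.IsTerminal.ofUniqueHom (fun E => ?_) (fun E m => ?_)⟩⟩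
  · have h := exists_descend q (F₁ := L ⋙ E.left) (F₂ := F) (Functor.whiskerRight eL.hom E.left ≫ E.hom ≫ eF.inv)
    exact CostructuredArrow.homMk (G.liftOfIsRightKanExtension α E.left h.choose) (by
      ext X
      exact (key _ _ X _ E.hom h.choose_spec).1 (G.liftOfIsRightKanExtension_fac_app α E.left h.choose (q.obj X)))
  · apply CostructuredArrow.hom_ext
    let h := exists_descend q (F₁ := L ⋙ E.left) (F₂ := F) (Functor.whiskerRight eL.hom E.left ≫ E.hom ≫ eF.inv)
    refine G.hom_ext_of_isRightKanExtension α _ _ ?_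
    refine Eq.trans ?_ (G.liftOfIsRightKanExtension_fac α E.left h.choose).symm
    ext X
    rw [← cancel_epi ((L ⋙ E.left).map (q.objObjPreimageIso X).hom), NatTrans.naturality, NatTrans.naturality]
    refine congrArg (· ≫ F.map (q.objObjPreimageIso X).hom) ?_
    exact (key _ m.left _ _ E.hom h.choose_spec).2 (NatTrans.congr_app (CostructuredArrow.w m) _)

end KanPrecomp

section Complexes

variable {A : Type u} [Category.{v} A] [Abelian A] [HasDerivedCategory A] {H : Type*} [Category H]
  [(HomotopyCategory.quasiIso A (ComplexShape.up ℤ)).HasRightCalculusOfFractions]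

/-- The hypotheses under which a functor on complexes is derived by resolutions. -/
structure CxResolvable (P : CochainComplex A ℤ → Prop) (F : CochainComplex A ℤ ⥤ H) : Prop where
  homotopy : ∀ ⦃K L : CochainComplex A ℤ⦄ (f g : K ⟶ L), Nonempty (Homotopy f g) → F.map f = F.map g
  exists_res : ∀ K : CochainComplex A ℤ, ∃ (Q : CochainComplex A ℤ) (p : Q ⟶ K), P Q ∧ QuasiIso p
  inverts : ∀ ⦃K L : CochainComplex A ℤ⦄ (φ : K ⟶ L), P K → P L → QuasiIso φ → IsIso (F.map φ)

namespace CxResolvable

variable {P : CochainComplex A ℤ → Prop} {F : CochainComplex A ℤ ⥤ H} (h : CxResolvable P F)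

/-- The functor on the homotopy category. -/
noncomputable def lift : HomotopyCategory A (ComplexShape.up ℤ) ⥤ H :=
  CategoryTheory.Quotient.lift _ F h.homotopy

/-- It restricts to the given functor. -/
noncomputable def liftIso : HomotopyCategory.quotient A (ComplexShape.up ℤ) ⋙ h.lift ≅ F :=
  CategoryTheory.Quotient.lift.isLift _ F h.homotopy

omit [HasDerivedCategory A] [(HomotopyCategory.quasiIso A (ComplexShape.up ℤ)).HasRightCalculusOfFractions] in
theorem leftResolvable :
    LeftResolvable (HomotopyCategory.quasiIso A (ComplexShape.up ℤ)) (fun Q => P Q.as) h.lift where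
  exists_res G := by
    obtain ⟨Q, p, hQ, hp⟩ := h.exists_res G.as
    exact ⟨(HomotopyCategory.quotient _ _).obj Q, (HomotopyCategory.quotient _ _).map p, hQ,
      (HomotopyCategory.quotient_map_mem_quasiIso_iff p).2 hp⟩
  inverts Q Q' s hQ hQ' hs := by
    obtain ⟨φ, rfl⟩ := (HomotopyCategory.quotient A (ComplexShape.up ℤ)).map_surjective s
    exact h.inverts φ hQ hQ' ((HomotopyCategory.quotient_map_mem_quasiIso_iff φ).1 hs)

/-- The comparison map of the derived functor. -/
noncomputable def counit : DerivedCategory.Q ⋙ h.leftResolvable.LF DerivedCategory.Qh ⟶ F :=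
  Functor.whiskerRight (DerivedCategory.quotientCompQhIso A).inv _ ≫
    Functor.whiskerLeft (HomotopyCategory.quotient A (ComplexShape.up ℤ)) (h.leftResolvable.LFα DerivedCategory.Qh) ≫
    h.liftIso.hom

theorem isLeftDerivedFunctor_counit :
    (h.leftResolvable.LF DerivedCategory.Qh).IsLeftDerivedFunctor h.counit
      (HomologicalComplex.quasiIso A (ComplexShape.up ℤ)) := by
  have := h.leftResolvable.isRightKanExtension (L := DerivedCategory.Qh) _ (h.leftResolvable.LFα DerivedCategory.Qh)
    fun _ hQ => h.leftResolvable.isIso_LFα_app hQ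
  have h1 := isRightKanExtension_precomp (DerivedCategory.quotientCompQhIso A) h.liftIso
    (h.leftResolvable.LF DerivedCategory.Qh) (h.leftResolvable.LFα DerivedCategory.Qh)
  exact ⟨h1⟩

include h in
theorem hasLeftDerivedFunctor : F.HasLeftDerivedFunctor (HomologicalComplex.quasiIso A (ComplexShape.up ℤ)) :=
  have := h.isLeftDerivedFunctor_counit
  Functor.HasLeftDerivedFunctor.mk' (h.leftResolvable.LF DerivedCategory.Qh) h.counit
    (W := HomologicalComplex.quasiIso A (ComplexShape.up ℤ))

include h in
/-- The counit of any left derived functor is invertible on `P`. -/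
theorem isIso_app_of_isLeftDerivedFunctor (G : DerivedCategory A ⥤ H) (α : DerivedCategory.Q ⋙ G ⟶ F)
    [G.IsLeftDerivedFunctor α (HomologicalComplex.quasiIso A (ComplexShape.up ℤ))] {K : CochainComplex A ℤ}
    (hK : P K) : IsIso (α.app K) := by
  have := h.isLeftDerivedFunctor_counit
  have h1 : IsIso (h.counit.app K) := by
    have := h.leftResolvable.isIso_LFα_app (L := DerivedCategory.Qh)
      (Q := (HomotopyCategory.quotient A (ComplexShape.up ℤ)).obj K) hK
    simp only [counit, NatTrans.comp_app, Functor.whiskerRight_app, Functor.whiskerLeft_app]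
    infer_instance
  let e := G.leftDerivedLift α (HomologicalComplex.quasiIso A (ComplexShape.up ℤ))
    (h.leftResolvable.LF DerivedCategory.Qh) h.counit
  have : IsIso e := (G.isLeftDerivedFunctor_iff_isIso_leftDerivedLift α _ _ _).1 inferInstance
  have hfac : e.app (DerivedCategory.Q.obj K) ≫ α.app K = h.counit.app K :=
    G.leftDerived_fac_app α _ _ _ K
  have h2 : IsIso (e.app (DerivedCategory.Q.obj K) ≫ α.app K) := by rw [hfac]; exact h1
  exact IsIso.of_isIso_comp_left (e.app (DerivedCategory.Q.obj K)) _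

include h in
/-- A comparison map which is invertible on `P` exhibits the left derived functor. -/
theorem isLeftDerivedFunctor (G : DerivedCategory A ⥤ H) (α : DerivedCategory.Q ⋙ G ⟶ F)
    (hα : ∀ K, P K → IsIso (α.app K)) :
    G.IsLeftDerivedFunctor α (HomologicalComplex.quasiIso A (ComplexShape.up ℤ)) := by
  have := h.isLeftDerivedFunctor_counit
  refine ((h.leftResolvable.LF DerivedCategory.Qh).isLeftDerivedFunctor_iff_isIso_leftDerivedLift h.counit
    (HomologicalComplex.quasiIso A (ComplexShape.up ℤ)) G α).2 ?_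
  let e := (h.leftResolvable.LF DerivedCategory.Qh).leftDerivedLift h.counit
    (HomologicalComplex.quasiIso A (ComplexShape.up ℤ)) G α
  have hP : ∀ K, P K → IsIso (e.app (DerivedCategory.Q.obj K)) := fun K hK => by
    have h1 : IsIso (h.counit.app K) :=
      h.isIso_app_of_isLeftDerivedFunctor (h.leftResolvable.LF DerivedCategory.Qh) h.counit hK
    have h2 : IsIso (e.app (DerivedCategory.Q.obj K) ≫ h.counit.app K) :=
      (Functor.leftDerived_fac_app (h.leftResolvable.LF DerivedCategory.Qh) h.counit
        (HomologicalComplex.quasiIso A (ComplexShape.up ℤ)) G α K).symm ▸ hα K hK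
    exact IsIso.of_isIso_comp_right (e.app (DerivedCategory.Q.obj K)) (h.counit.app K)
  have : ∀ T, IsIso (e.app T) := fun T => by
    obtain ⟨Q, p, hQ, hp⟩ := h.exists_res (DerivedCategory.Q.objPreimage T)
    have := hP Q hQ
    exact ((MorphismProperty.isomorphisms H).arrow_mk_iso_iff
      (Arrow.isoMk (G.mapIso (asIso (DerivedCategory.Q.map p) ≪≫ DerivedCategory.Q.objObjPreimageIso T))
        ((h.leftResolvable.LF DerivedCategory.Qh).mapIso
          (asIso (DerivedCategory.Q.map p) ≪≫ DerivedCategory.Q.objObjPreimageIso T)) (e.naturality _))).1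
      (inferInstanceAs (IsIso (e.app (DerivedCategory.Q.obj Q))))
  exact NatIso.isIso_of_isIso_app e

include h in
/-- The value of the total left derived functor. -/
theorem totalLeftDerived_value [F.HasLeftDerivedFunctor (HomologicalComplex.quasiIso A (ComplexShape.up ℤ))]
    {K : CochainComplex A ℤ} (hK : P K) :
    Nonempty ((F.totalLeftDerived DerivedCategory.Q (HomologicalComplex.quasiIso A (ComplexShape.up ℤ))).obj
      (DerivedCategory.Q.obj K) ≅ F.obj K) :=
  have := h.isIso_app_of_isLeftDerivedFunctor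
    (F.totalLeftDerived DerivedCategory.Q (HomologicalComplex.quasiIso A (ComplexShape.up ℤ)))
    (F.totalLeftDerivedCounit DerivedCategory.Q (HomologicalComplex.quasiIso A (ComplexShape.up ℤ))) hK
  ⟨asIso ((F.totalLeftDerivedCounit DerivedCategory.Q (HomologicalComplex.quasiIso A (ComplexShape.up ℤ))).app K)⟩

end CxResolvable

end Complexes

end GrothLib.Derive
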