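import Mathlib.CategoryTheory.Functor.Derived.LeftDerived
import Mathlib.CategoryTheory.Localization.CalculusOfFractions

/-! # Left derived functors from resolutions

If `W` has a right calculus of fractions, every object receives a morphism of `W` from an object
satisfying `P`, and `F` inverts the morphisms of `W` between objects satisfying `P`, then the
(absolute) left derived functor of `F` exists and is computed by these resolutions. -/

set_option autoImplicit false
universe v₁ v₂ v₃ u₁ u₂ u₃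

open CategoryTheory

namespace GrothLib.Derive

variable {C : Type u₁} [Category.{v₁} C] {D : Type u₂} [Category.{v₂} D]
  {H : Type u₃} [Category.{v₃} H]

/-- The hypotheses under which a functor is left derived by resolutions. -/
structure LeftResolvable (W : MorphismProperty C) (P : ObjectProperty C) (F : C ⥤ H) : Prop where
  exists_res : ∀ X : C, ∃ (Q : C) (p : Q ⟶ X), P Q ∧ W p
  inverts : ∀ ⦃Q Q' : C⦄ (s : Q ⟶ Q'), P Q → P Q' → W s → IsIso (F.map s)

variable {W : MorphismProperty C} [W.HasRightCalculusOfFractions] {P : ObjectProperty C}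
  {F : C ⥤ H}

namespace LeftResolvable

variable (h : LeftResolvable W P F)

/-- The chosen resolution. -/
noncomputable def res (X : C) : C := (h.exists_res X).choose

/-- The map from the chosen resolution. -/
noncomputable def resπ (X : C) : h.res X ⟶ X := (h.exists_res X).choose_spec.choose

lemma res_mem (X : C) : P (h.res X) := (h.exists_res X).choose_spec.choose_spec.1

lemma resπ_mem (X : C) : W (h.resπ X) := (h.exists_res X).choose_spec.choose_spec.2

include h in
lemma epi_map {Q Q' : C} (s : Q ⟶ Q') (hQ : P Q) (hQ' : P Q') (hs : W s) : Epi (F.map s) :=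
  have := h.inverts s hQ hQ' hs
  inferInstance

include h in
/-- Two maps equalised by a morphism of `W` have the same image. -/
lemma map_eq_of_comp_eq {Q Q' Y : C} (g₁ g₂ : Q ⟶ Q') (hQ : P Q) (s : Q' ⟶ Y) (hs : W s)
    (e : g₁ ≫ s = g₂ ≫ s) : F.map g₁ = F.map g₂ := by
  obtain ⟨Z, t, ht, htg⟩ := MorphismProperty.HasRightCalculusOfFractions.ext g₁ g₂ s hs e
  obtain ⟨Q'', r, hQ'', hr⟩ := h.exists_res Z
  have := h.epi_map (r ≫ t) hQ'' hQ (W.comp_mem _ _ hr ht)
  rw [← cancel_epi (F.map (r ≫ t)), ← F.map_comp, ← F.map_comp, Category.assoc, htg, Category.assoc]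

include h in
/-- Completing a cospan whose right leg is in `W` by a square starting in `P`. -/
lemma exists_square {A B Y : C} (f : A ⟶ Y) (w : B ⟶ Y) (hw : W w) :
    ∃ (Q : C) (t : Q ⟶ A) (k : Q ⟶ B), P Q ∧ W t ∧ t ≫ f = k ≫ w := by
  obtain ⟨ψ, hψ⟩ := MorphismProperty.HasRightCalculusOfFractions.exists_rightFraction
    (MorphismProperty.LeftFraction.mk f w hw)
  obtain ⟨Q, r, hQ, hr⟩ := h.exists_res ψ.X'
  exact ⟨Q, r ≫ ψ.s, r ≫ ψ.f, hQ, W.comp_mem _ _ hr ψ.hs, by
    simp only [Category.assoc]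
    exact congrArg (r ≫ ·) hψ⟩

/-- `φ` is the value of the derived functor on `f`. -/
def IsMapOf {X Y : C} (f : X ⟶ Y) (φ : F.obj (h.res X) ⟶ F.obj (h.res Y)) : Prop :=
  ∀ (Q : C) (s : Q ⟶ h.res X) (g : Q ⟶ h.res Y), P Q → W s →
    s ≫ h.resπ X ≫ f = g ≫ h.resπ Y → F.map s ≫ φ = F.map g

lemma exists_lift {X Y : C} (f : X ⟶ Y) :
    ∃ (Q : C) (s : Q ⟶ h.res X) (g : Q ⟶ h.res Y), P Q ∧ W s ∧ s ≫ h.resπ X ≫ f = g ≫ h.resπ Y :=
  h.exists_square (h.resπ X ≫ f) (h.resπ Y) (h.resπ_mem Y)

lemma exists_isMapOf {X Y : C} (f : X ⟶ Y) : ∃ φ, h.IsMapOf f φ := by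
  obtain ⟨Q₀, s₀, g₀, hQ₀, hs₀, e₀⟩ := h.exists_lift f
  have := h.inverts s₀ hQ₀ (h.res_mem X) hs₀
  refine ⟨inv (F.map s₀) ≫ F.map g₀, fun Q s g hQ hs e => ?_⟩
  obtain ⟨Q', t, k, hQ', ht, htk⟩ := h.exists_square s s₀ hs₀
  have := h.epi_map t hQ' hQ ht
  rw [← cancel_epi (F.map t), ← F.map_comp_assoc, htk, F.map_comp_assoc, IsIso.hom_inv_id_assoc,
    ← F.map_comp, ← F.map_comp]
  refine h.map_eq_of_comp_eq _ _ hQ' (h.resπ Y) (h.resπ_mem Y) ?_
  rw [Category.assoc, ← e₀, ← reassoc_of% htk, Category.assoc, ← e]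

lemma isMapOf_unique {X Y : C} {f : X ⟶ Y} {φ φ'} (hφ : h.IsMapOf f φ) (hφ' : h.IsMapOf f φ') :
    φ = φ' := by
  obtain ⟨Q, s, g, hQ, hs, e⟩ := h.exists_lift f
  have := h.epi_map s hQ (h.res_mem X) hs
  rw [← cancel_epi (F.map s), hφ Q s g hQ hs e, hφ' Q s g hQ hs e]

/-- The value of the derived functor on `f`. -/
noncomputable def Rmap {X Y : C} (f : X ⟶ Y) : F.obj (h.res X) ⟶ F.obj (h.res Y) :=
  (h.exists_isMapOf f).choose

lemma isMapOf_Rmap {X Y : C} (f : X ⟶ Y) : h.IsMapOf f (h.Rmap f) :=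
  (h.exists_isMapOf f).choose_spec

/-- The derived functor, before descending to the localization. -/
noncomputable def R : C ⥤ H where
  obj X := F.obj (h.res X)
  map f := h.Rmap f
  map_id X := by
    refine h.isMapOf_unique (h.isMapOf_Rmap _) fun Q s g hQ hs e => ?_
    rw [Category.comp_id]
    rw [Category.comp_id] at e
    exact h.map_eq_of_comp_eq _ _ hQ _ (h.resπ_mem X) e
  map_comp {X Y Z} f g := by
    obtain ⟨Q, s, k, hQ, hs, e⟩ := h.exists_lift f
    obtain ⟨Q₂, s₂, k₂, hQ₂, hs₂, e₂⟩ := h.exists_lift g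
    obtain ⟨Q', t, l, hQ', ht, htl⟩ := h.exists_square k s₂ hs₂
    have := h.epi_map (t ≫ s) hQ' (h.res_mem X) (W.comp_mem _ _ ht hs)
    rw [← cancel_epi (F.map (t ≫ s)),
      h.isMapOf_Rmap (f ≫ g) Q' (t ≫ s) (l ≫ k₂) hQ' (W.comp_mem _ _ ht hs) (by
        rw [Category.assoc, Category.assoc, reassoc_of% e, reassoc_of% htl, e₂]),
      F.map_comp, F.map_comp, Category.assoc, reassoc_of% (h.isMapOf_Rmap f Q s k hQ hs e),
      ← F.map_comp_assoc, htl, F.map_comp_assoc, h.isMapOf_Rmap g Q₂ s₂ k₂ hQ₂ hs₂ e₂]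

/-- The comparison with `F`. -/
noncomputable def Rπ : h.R ⟶ F where
  app X := F.map (h.resπ X)
  naturality X Y f := by
    obtain ⟨Q, s, g, hQ, hs, e⟩ := h.exists_lift f
    have := h.epi_map s hQ (h.res_mem X) hs
    change h.Rmap f ≫ _ = F.map (h.resπ X) ≫ F.map f
    rw [← cancel_epi (F.map s), reassoc_of% (h.isMapOf_Rmap f Q s g hQ hs e), ← F.map_comp,
      ← F.map_comp, ← F.map_comp, e]

lemma R_inverts : W.IsInvertedBy h.R := by
  intro X Y w hw
  obtain ⟨Q, s, g, hQ, hs, e⟩ := h.exists_lift w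
  obtain ⟨Q', t, k, hQ', ht, e'⟩ := h.exists_square (h.resπ Y) (h.resπ X ≫ w)
    (W.comp_mem _ _ (h.resπ_mem X) hw)
  have hφ : F.map s ≫ h.Rmap w = F.map g := h.isMapOf_Rmap w Q s g hQ hs e
  have := h.inverts s hQ (h.res_mem X) hs
  have := h.inverts t hQ' (h.res_mem Y) ht
  let ψ : F.obj (h.res Y) ⟶ F.obj (h.res X) := inv (F.map t) ≫ F.map k
  refine ⟨⟨ψ, ?_, ?_⟩⟩
  · obtain ⟨Q'', a, b, hQ'', ha, hab⟩ := h.exists_square g t ht
    have := h.epi_map a hQ'' hQ ha
    have h1 : F.map (a ≫ s) = F.map (b ≫ k) :=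
      h.map_eq_of_comp_eq _ _ hQ'' (h.resπ X ≫ w) (W.comp_mem _ _ (h.resπ_mem X) hw)
        (by rw [Category.assoc, Category.assoc, e, ← e', reassoc_of% hab])
    change h.Rmap w ≫ inv (F.map t) ≫ F.map k = 𝟙 _
    rw [← cancel_epi (F.map s), ← cancel_epi (F.map a), reassoc_of% hφ, ← F.map_comp_assoc, hab,
      F.map_comp_assoc, IsIso.hom_inv_id_assoc, ← F.map_comp, ← h1, F.map_comp]
    exact (congrArg (F.map a ≫ ·) (Category.comp_id _)).symm
  · change (inv (F.map t) ≫ F.map k) ≫ h.Rmap w = _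
    obtain ⟨Q'', a, b, hQ'', ha, hab⟩ := h.exists_square k s hs
    have := h.epi_map a hQ'' hQ' ha
    have h1 : F.map (a ≫ t) = F.map (b ≫ g) :=
      h.map_eq_of_comp_eq _ _ hQ'' (h.resπ Y) (h.resπ_mem Y)
        (by rw [Category.assoc, Category.assoc, e', reassoc_of% hab, e])
    rw [Category.assoc, IsIso.inv_comp_eq, ← cancel_epi (F.map a), ← F.map_comp_assoc, hab,
      F.map_comp_assoc, hφ, ← F.map_comp, ← h1, F.map_comp]
    exact (congrArg (F.map a ≫ ·) (Category.comp_id _)).symm

variable (L : C ⥤ D) [L.IsLocalization W]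

/-- The left derived functor. -/
noncomputable def LF : D ⥤ H := Localization.lift h.R h.R_inverts L

/-- Its counit. -/
noncomputable def LFα : L ⋙ h.LF L ⟶ F :=
  (Localization.fac h.R h.R_inverts L).hom ≫ h.Rπ

variable {L}

lemma isIso_LFα_app {Q : C} (hQ : P Q) : IsIso ((h.LFα L).app Q) := by
  have : IsIso (h.Rπ.app Q) := h.inverts _ (h.res_mem Q) hQ (h.resπ_mem Q)
  rw [LFα, NatTrans.comp_app]
  infer_instance

include h in
/-- A comparison map which is invertible on `P` exhibits the left derived functor. -/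
theorem isRightKanExtension (G : D ⥤ H) (α : L ⋙ G ⟶ F)
    (hα : ∀ Q, P Q → IsIso (α.app Q)) : G.IsRightKanExtension α := by
  have hL : ∀ X, IsIso (L.map (h.resπ X)) := fun X => Localization.inverts L W _ (h.resπ_mem X)
  refine ⟨⟨Limits.IsTerminal.ofUniqueHom (fun E => ?_) (fun E m => ?_)⟩⟩
  · let β : L ⋙ E.left ⟶ F := E.hom
    have hi : ∀ X, IsIso (E.left.map (L.map (h.resπ X))) := fun X => inferInstance
    have hia : ∀ X, IsIso (α.app (h.res X)) := fun X => hα _ (h.res_mem X)
    let δ : L ⋙ E.left ⟶ L ⋙ G :=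
      { app := fun X => inv (E.left.map (L.map (h.resπ X))) ≫ β.app (h.res X) ≫
          inv (α.app (h.res X)) ≫ G.map (L.map (h.resπ X))
        naturality := fun X Y f => by
          obtain ⟨Q, s, g, hQ, hs, e⟩ := h.exists_lift f
          have : IsIso (E.left.map (L.map s)) :=
            have := Localization.inverts L W s hs
            inferInstance
          have hiQ : IsIso (α.app Q) := hα _ hQ
          rw [← cancel_epi (E.left.map (L.map s) ≫ E.left.map (L.map (h.resπ X)))]
          simp only [Functor.comp_map, Category.assoc, IsIso.hom_inv_id_assoc]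
          have hnβ : ∀ {Z} (u : Q ⟶ h.res Z),
              E.left.map (L.map u) ≫ β.app (h.res Z) ≫ inv (α.app (h.res Z)) =
                β.app Q ≫ inv (α.app Q) ≫ G.map (L.map u) := by
            intro Z u
            have hn : G.map (L.map u) ≫ α.app (h.res Z) = α.app Q ≫ F.map u := α.naturality u
            have hb : E.left.map (L.map u) ≫ β.app (h.res Z) = β.app Q ≫ F.map u := β.naturality u
            rw [reassoc_of% hb, ← cancel_mono (α.app (h.res Z))]
            simp only [Category.assoc, hn, IsIso.inv_hom_id, Category.comp_id, IsIso.inv_hom_id_assoc]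
          have he : E.left.map (L.map s) ≫ E.left.map (L.map (h.resπ X)) ≫ E.left.map (L.map f) =
              E.left.map (L.map g) ≫ E.left.map (L.map (h.resπ Y)) := by
            simp only [← Functor.map_comp, e]
          rw [reassoc_of% he, IsIso.hom_inv_id_assoc, reassoc_of% (hnβ g), reassoc_of% (hnβ s)]
          simp only [← Functor.map_comp, e] }
    exact CostructuredArrow.homMk (Localization.liftNatTrans L W (L ⋙ E.left) (L ⋙ G) E.left G δ) (by
      ext X
      have hn : G.map (L.map (h.resπ X)) ≫ α.app X = α.app (h.res X) ≫ F.map (h.resπ X) :=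
        α.naturality (h.resπ X)
      have hb : E.left.map (L.map (h.resπ X)) ≫ β.app X = β.app (h.res X) ≫ F.map (h.resπ X) :=
        β.naturality (h.resπ X)
      rw [NatTrans.comp_app]
      change (Localization.liftNatTrans L W (L ⋙ E.left) (L ⋙ G) E.left G δ).app (L.obj X) ≫ α.app X = β.app X
      simp only [Localization.liftNatTrans_app]
      simp [δ, hn]
      simp [← hb, β])
  · apply CostructuredArrow.hom_ext
    refine Localization.natTrans_ext L W fun X => ?_
    have hn : m.left.app (L.obj (h.res X)) ≫ α.app (h.res X) = E.hom.app (h.res X) :=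
      congr_app (CostructuredArrow.w m) (h.res X)
    have hm := m.left.naturality (L.map (h.resπ X))
    have := hα _ (h.res_mem X)
    simp [← hn]
    refine ((IsIso.inv_comp_eq _).2 (Eq.trans ?_ hm.symm)).symm
    refine congrArg (m.left.app (L.obj (h.res X)) ≫ ·) ?_
    exact IsIso.hom_inv_id_assoc (α.app (h.res X)) _

include h in
theorem isLeftDerivedFunctor (G : D ⥤ H) (α : L ⋙ G ⟶ F)
    (hα : ∀ Q, P Q → IsIso (α.app Q)) : G.IsLeftDerivedFunctor α W :=
  ⟨h.isRightKanExtension G α hα⟩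

include h in
theorem hasLeftDerivedFunctor : F.HasLeftDerivedFunctor W :=
  ⟨by
    have := h.isRightKanExtension (L := W.Q) (h.LF W.Q) (h.LFα W.Q) fun _ hQ => h.isIso_LFα_app hQ
    exact Functor.HasRightKanExtension.mk (h.LF W.Q) (h.LFα W.Q)⟩

include h in
/-- The counit of any left derived functor is invertible on `P`. -/
theorem isIso_app_of_isLeftDerivedFunctor (G : D ⥤ H) (α : L ⋙ G ⟶ F)
    [G.IsLeftDerivedFunctor α W] {Q : C} (hQ : P Q) : IsIso (α.app Q) := by
  have := h.isLeftDerivedFunctor (h.LF L) (h.LFα L) fun _ hQ => h.isIso_LFα_app hQ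
  have hfac : (G.leftDerivedLift α W (h.LF L) (h.LFα L)).app (L.obj Q) ≫ α.app Q = (h.LFα L).app Q :=
    G.leftDerived_fac_app α W (h.LF L) (h.LFα L) Q
  have : IsIso (G.leftDerivedLift α W (h.LF L) (h.LFα L)) :=
    (G.isLeftDerivedFunctor_iff_isIso_leftDerivedLift α W (h.LF L) (h.LFα L)).1 inferInstance
  have h1 : IsIso ((G.leftDerivedLift α W (h.LF L) (h.LFα L)).app (L.obj Q) ≫ α.app Q) := by
    rw [hfac]
    exact h.isIso_LFα_app hQ
  exact IsIso.of_isIso_comp_left ((G.leftDerivedLift α W (h.LF L) (h.LFα L)).app (L.obj Q)) _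

omit [W.HasRightCalculusOfFractions] in
include h in
/-- Composition with any functor preserves the hypotheses: derived functors are absolute. -/
theorem postcomp {H' : Type*} [Category H'] (E : H ⥤ H') : LeftResolvable W P (F ⋙ E) :=
  ⟨h.exists_res, fun _ _ s hQ hQ' hs =>
    have := h.inverts s hQ hQ' hs
    inferInstanceAs (IsIso (E.map (F.map s)))⟩

end LeftResolvable

end GrothLib.Derive
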