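import Groth.Agent.Lib.KInj.Derived
import Mathlib.Algebra.Homology.DerivedCategory.Basic

/-! # Right derived functors of functors on complexes which respect homotopies -/

set_option autoImplicit false
universe w v u v' u'

open CategoryTheory CategoryTheory.Limits

namespace GrothLib.Derive

section Precomp

variable {C₀ : Type*} [Category C₀] {C : Type*} [Category C] {D : Type*} [Category D] {H : Type*} [Category H]
  (q : C₀ ⥤ C) [q.Full] [q.EssSurj] {L : C ⥤ D} {F : C ⥤ H} {L₀ : C₀ ⥤ D} {F₀ : C₀ ⥤ H}

/-- A natural transformation defined after a full, essentially surjective functor descends. -/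
theorem exists_descend_nat {F₁ F₂ : C ⥤ H} (β : q ⋙ F₁ ⟶ q ⋙ F₂) :
    ∃ β' : F₁ ⟶ F₂, ∀ X, β'.app (q.obj X) = β.app X := by
  have hnat : ∀ {X Y : C₀} (g : X ⟶ Y), F₁.map (q.map g) ≫ β.app Y = β.app X ≫ F₂.map (q.map g) :=
    fun g => β.naturality g
  refine ⟨{ app := fun X => F₁.map (q.objObjPreimageIso X).inv ≫ β.app (q.objPreimage X) ≫
      F₂.map (q.objObjPreimageIso X).hom, naturality := fun X Y f => ?_ }, fun X => ?_⟩
  · obtain ⟨g, hg⟩ := q.map_surjective ((q.objObjPreimageIso X).hom ≫ f ≫ (q.objObjPreimageIso Y).inv)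
    have h1 : f ≫ (q.objObjPreimageIso Y).inv = (q.objObjPreimageIso X).inv ≫ q.map g := by
      rw [hg, Iso.inv_hom_id_assoc]
    have h2 : q.map g ≫ (q.objObjPreimageIso Y).hom = (q.objObjPreimageIso X).hom ≫ f := by
      rw [hg, Category.assoc, Category.assoc, Iso.inv_hom_id, Category.comp_id]
    rw [← F₁.map_comp_assoc, h1, F₁.map_comp_assoc, reassoc_of% (hnat g), ← F₂.map_comp, h2, F₂.map_comp]
    simp only [Category.assoc]
  · obtain ⟨g, hg⟩ := q.map_surjective (q.objObjPreimageIso (q.obj X)).hom
    change F₁.map (q.objObjPreimageIso (q.obj X)).inv ≫ β.app (q.objPreimage (q.obj X)) ≫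
      F₂.map (q.objObjPreimageIso (q.obj X)).hom = β.app X
    rw [← hg, ← hnat g, hg, ← F₁.map_comp_assoc, Iso.inv_hom_id, F₁.map_id]
    exact Category.id_comp _

variable (eL : q ⋙ L ≅ L₀) (eF : q ⋙ F ≅ F₀)

/-- A left Kan extension along `L` is one along `q ⋙ L`. -/
theorem isLeftKanExtension_precomp (G : D ⥤ H) (α : F ⟶ L ⋙ G) [G.IsLeftKanExtension α] :
    G.IsLeftKanExtension (eF.inv ≫ Functor.whiskerLeft q α ≫ Functor.whiskerRight eL.hom G) := by
  refine ⟨⟨Limits.IsInitial.ofUniqueHom (fun E => ?_) (fun E m => ?_)⟩⟩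
  · let h := exists_descend_nat q (F₁ := F) (F₂ := L ⋙ E.right)
      (eF.hom ≫ E.hom ≫ Functor.whiskerRight eL.inv E.right)
    refine StructuredArrow.homMk (G.descOfIsLeftKanExtension α E.right h.choose) ?_
    ext X
    have h1 := G.descOfIsLeftKanExtension_fac_app α E.right h.choose (q.obj X)
    have h2 := h.choose_spec X
    have hn := (G.descOfIsLeftKanExtension α E.right h.choose).naturality (eL.hom.app X)
    change (eF.inv.app X ≫ α.app (q.obj X) ≫ G.map (eL.hom.app X)) ≫ _ = E.hom.app X
    rw [Category.assoc, Category.assoc]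
    erw [hn]
    erw [reassoc_of% h1, h2]
    simp [← Functor.map_comp]
  · apply StructuredArrow.hom_ext
    let h := exists_descend_nat q (F₁ := F) (F₂ := L ⋙ E.right)
      (eF.hom ≫ E.hom ≫ Functor.whiskerRight eL.inv E.right)
    refine G.hom_ext_of_isLeftKanExtension α _ _ ?_
    refine Eq.trans ?_ (G.descOfIsLeftKanExtension_fac α E.right h.choose).symm
    ext Y
    rw [← cancel_epi (F.map (q.objObjPreimageIso Y).hom)]
    erw [(α ≫ Functor.whiskerLeft L m.right).naturality, h.choose.naturality]
    refine congrArg (· ≫ (L ⋙ E.right).map (q.objObjPreimageIso Y).hom) ?_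
    let X := q.objPreimage Y
    let μ : G ⟶ E.right := m.right
    have hw : (eF.inv.app X ≫ α.app (q.obj X) ≫ G.map (eL.hom.app X)) ≫ μ.app (L₀.obj X) = E.hom.app X :=
      NatTrans.congr_app (StructuredArrow.w m) X
    have hn : G.map (eL.inv.app X) ≫ μ.app (L.obj (q.obj X)) = μ.app (L₀.obj X) ≫ E.right.map (eL.inv.app X) :=
      μ.naturality (eL.inv.app X)
    change α.app (q.obj X) ≫ μ.app (L.obj (q.obj X)) = _
    rw [h.choose_spec X]
    simp only [NatTrans.comp_app, Functor.whiskerRight_app]
    rw [← hw]
    simp only [Category.assoc]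
    erw [← hn]
    rw [Iso.hom_inv_id_app_assoc, ← G.map_comp_assoc, Iso.hom_inv_id_app]
    erw [G.map_id, Category.id_comp]

end Precomp

section Complexes

variable {A : Type u} [Category.{v} A] [Abelian A] [IsGrothendieckAbelian.{v} A] [HasDerivedCategory.{w} A]
  {H : Type u'} [Category.{v'} H] (F : CochainComplex A ℤ ⥤ H)
  (hF : ∀ ⦃K L : CochainComplex A ℤ⦄ (f g : K ⟶ L), Nonempty (Homotopy f g) → F.map f = F.map g)

/-- The functor on the homotopy category. -/
noncomputable def hoLift : HomotopyCategory A (ComplexShape.up ℤ) ⥤ H :=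
  CategoryTheory.Quotient.lift _ F hF

/-- It restricts to the given functor. -/
noncomputable def hoLiftIso : HomotopyCategory.quotient A (ComplexShape.up ℤ) ⋙ hoLift F hF ≅ F :=
  CategoryTheory.Quotient.lift.isLift _ F hF

/-- The derived functor computed by K-injective resolutions. -/
noncomputable def rightCx : DerivedCategory A ⥤ H := KInj.res A ⋙ hoLift F hF

/-- Its comparison map. -/
noncomputable def rightCxUnit : F ⟶ DerivedCategory.Q ⋙ rightCx F hF :=
  (hoLiftIso F hF).inv ≫ Functor.whiskerLeft (HomotopyCategory.quotient A (ComplexShape.up ℤ))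
    (KInj.derUnit (hoLift F hF)) ≫ (Functor.associator _ _ (KInj.res A ⋙ hoLift F hF)).inv ≫
      Functor.whiskerRight (DerivedCategory.quotientCompQhIso A).hom (KInj.res A ⋙ hoLift F hF)

instance isRightDerivedFunctor_rightCxUnit :
    (rightCx F hF).IsRightDerivedFunctor (rightCxUnit F hF)
      (HomologicalComplex.quasiIso A (ComplexShape.up ℤ)) := by
  haveI : (rightCx F hF).IsLeftKanExtension (KInj.derUnit (hoLift F hF)) :=
    (Functor.isRightDerivedFunctor_iff_isLeftKanExtension _ _
      (HomotopyCategory.quasiIso A (ComplexShape.up ℤ))).1 (KInj.isRightDerivedFunctor_res (hoLift F hF))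
  have h := isLeftKanExtension_precomp _ (DerivedCategory.quotientCompQhIso A) (hoLiftIso F hF) (rightCx F hF)
    (KInj.derUnit (hoLift F hF))
  have he : rightCxUnit F hF = (hoLiftIso F hF).inv ≫
      Functor.whiskerLeft (HomotopyCategory.quotient A (ComplexShape.up ℤ)) (KInj.derUnit (hoLift F hF)) ≫
        Functor.whiskerRight (DerivedCategory.quotientCompQhIso A).hom (rightCx F hF) := by
    ext X
    simp [rightCxUnit, rightCx]
  exact ⟨he ▸ h⟩

include hF in
theorem hasRightDerivedFunctor_cx :
    F.HasRightDerivedFunctor (HomologicalComplex.quasiIso A (ComplexShape.up ℤ)) :=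
  Functor.HasRightDerivedFunctor.mk' (W := HomologicalComplex.quasiIso A (ComplexShape.up ℤ))
    (rightCx F hF) (rightCxUnit F hF)

/-- The unit of the derived functor is invertible on K-injective complexes. -/
theorem isIso_rightCxUnit_app (C : CochainComplex A ℤ) [C.IsKInjective] :
    IsIso ((rightCxUnit F hF).app C) := by
  have h1 := KInj.isIso_unit_of_rightOrthogonal (CochainComplex.IsKInjective.rightOrthogonal C)
  have h2 : IsIso ((KInj.derUnit (hoLift F hF)).app ((HomotopyCategory.quotient A (ComplexShape.up ℤ)).obj C)) :=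
    by
      simp only [KInj.derUnit, Adjunction.whiskerLeft, Adjunction.mk'_unit, Functor.whiskeringLeft_obj_obj, NatTrans.comp_app, Functor.leftUnitor_inv_app,
        Functor.associator_hom_app, Functor.whiskerRight_app, Category.id_comp, Category.comp_id]
      exact IsIso.comp_isIso' (IsIso.id _) (@Functor.map_isIso _ _ _ _ _ _ (hoLift F hF) _ h1)
  have h3 : IsIso ((DerivedCategory.quotientCompQhIso A).hom.app C) :=
    ⟨(DerivedCategory.quotientCompQhIso A).inv.app C, Iso.hom_inv_id_app _ _, Iso.inv_hom_id_app _ _⟩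
  simp only [rightCxUnit, NatTrans.comp_app, Functor.whiskerLeft_app, Functor.whiskerRight_app,
    Functor.associator_inv_app]
  exact IsIso.comp_isIso' inferInstance (IsIso.comp_isIso' h2 (IsIso.comp_isIso' inferInstance (@Functor.map_isIso _ _ _ _ _ _ _ _ h3)))

include hF in
/-- The unit of a total right derived functor is invertible on K-injective complexes. -/
theorem isIso_totalRightDerivedUnit_app
    [F.HasRightDerivedFunctor (HomologicalComplex.quasiIso A (ComplexShape.up ℤ))]
    (C : CochainComplex A ℤ) [C.IsKInjective] :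
    IsIso ((F.totalRightDerivedUnit DerivedCategory.Q
      (HomologicalComplex.quasiIso A (ComplexShape.up ℤ))).app C) := by
  let W := HomologicalComplex.quasiIso A (ComplexShape.up ℤ)
  let T := F.totalRightDerived DerivedCategory.Q W
  let η := F.totalRightDerivedUnit DerivedCategory.Q W
  let e := Functor.rightDerivedUnique T (rightCx F hF) η (rightCxUnit F hF) W
  have hfac : η.app C ≫ e.hom.app (DerivedCategory.Q.obj C) = (rightCxUnit F hF).app C := by
    change η.app C ≫ (T.rightDerivedNatTrans (rightCx F hF) η (rightCxUnit F hF) W (𝟙 F)).app _ = _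
    rw [Functor.rightDerivedNatTrans_app]
    exact Category.id_comp _
  haveI : IsIso ((rightCxUnit F hF).app C) := isIso_rightCxUnit_app F hF C
  haveI : IsIso (η.app C ≫ e.hom.app (DerivedCategory.Q.obj C)) := by rw [hfac]; infer_instance
  exact IsIso.of_isIso_comp_right (η.app C) (e.hom.app (DerivedCategory.Q.obj C))

include hF in
/-- The value of a total right derived functor on K-injective complexes. -/
theorem totalRightDerived_value [F.HasRightDerivedFunctor (HomologicalComplex.quasiIso A (ComplexShape.up ℤ))]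
    (C : CochainComplex A ℤ) [C.IsKInjective] :
    Nonempty (F.obj C ≅ (F.totalRightDerived DerivedCategory.Q
      (HomologicalComplex.quasiIso A (ComplexShape.up ℤ))).obj (DerivedCategory.Q.obj C)) :=
  haveI := isIso_totalRightDerivedUnit_app F hF C
  ⟨asIso ((F.totalRightDerivedUnit DerivedCategory.Q (HomologicalComplex.quasiIso A (ComplexShape.up ℤ))).app C)⟩

end Complexes

end GrothLib.Derive
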